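import Mathlib.RingTheory.Polynomial.Cyclotomic.Eval
import Mathlib.RingTheory.Polynomial.Cyclotomic.Roots
import Mathlib.NumberTheory.ArithmeticFunction.Moebius
import Mathlib.Algebra.Order.BigOperators.Ring.Finset
import Mathlib.Tactic.Positivity
import Mathlib.Tactic.Linarith

/-!
# A lower bound for cyclotomic values

`q ^ φ n ≤ 4 * Φ_n(q)` for `q ≥ 2`, by Möbius inversion and
`∏_{d ∈ s} (1 - q⁻ᵈ) ≥ 1 - q⁻¹ - q⁻² ≥ 1/4`.
-/

open Finset Polynomial
open scoped ArithmeticFunction.Moebius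

namespace CfsgLib.NT

theorem prod_one_sub_pow_ge {x : ℝ} (hx0 : 0 ≤ x) (hx : x ≤ 1 / 2) (N : ℕ) :
    1 - x - x ^ 2 + x ^ (N + 2) ≤ ∏ j ∈ range (N + 1), (1 - x ^ (j + 1)) := by
  induction N with
  | zero => simp
  | succ N ih =>
    have hpow : x ^ (N + 2) ≤ 1 := pow_le_one₀ hx0 (by linarith)
    have h0 : 0 ≤ x ^ (N + 2) := by positivity
    have hnn : (0 : ℝ) ≤ 1 - x ^ (N + 2) := by linarith
    calc 1 - x - x ^ 2 + x ^ (N + 1 + 2)
        ≤ (1 - x - x ^ 2 + x ^ (N + 2)) * (1 - x ^ (N + 2)) := by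
          have h1 : x ^ (N + 2) ≤ x ^ 2 := pow_le_pow_of_le_one hx0 (by linarith) (by omega)
          have e : x ^ (N + 1 + 2) = x * x ^ (N + 2) := by ring
          rw [e]
          nlinarith [mul_nonneg h0 (sub_nonneg.2 h1)]
      _ ≤ (∏ j ∈ range (N + 1), (1 - x ^ (j + 1))) * (1 - x ^ (N + 2)) :=
          mul_le_mul_of_nonneg_right ih hnn
      _ = _ := (prod_range_succ (fun j => (1 - x ^ (j + 1))) (N + 1)).symm

theorem quarter_le_prod_one_sub_pow {x : ℝ} (hx0 : 0 ≤ x) (hx : x ≤ 1 / 2) (s : Finset ℕ)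
    (hs : 0 ∉ s) : 1 / 4 ≤ ∏ d ∈ s, (1 - x ^ d) := by
  obtain ⟨N, hN⟩ : ∃ N, s ⊆ (range (N + 1)).image (· + 1) := by
    refine ⟨s.sup id, fun d hd => mem_image.2 ⟨d - 1, ?_, ?_⟩⟩
    · have := Finset.le_sup (f := id) hd
      simp only [id_eq] at this
      exact mem_range.2 (by omega)
    · have : d ≠ 0 := fun h => hs (h ▸ hd)
      omega
  have h1 : ∀ d, 0 ≤ 1 - x ^ d := fun d => by
    have : x ^ d ≤ 1 := pow_le_one₀ hx0 (by linarith)
    linarith
  have h2 : ∀ d, 1 - x ^ d ≤ 1 := fun d => by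
    have : 0 ≤ x ^ d := pow_nonneg hx0 d
    linarith
  calc (1 : ℝ) / 4 ≤ 1 - x - x ^ 2 := by nlinarith
    _ ≤ 1 - x - x ^ 2 + x ^ (N + 2) := by
        have : 0 ≤ x ^ (N + 2) := by positivity
        linarith
    _ ≤ ∏ j ∈ range (N + 1), (1 - x ^ (j + 1)) := prod_one_sub_pow_ge hx0 hx N
    _ = ∏ d ∈ (range (N + 1)).image (· + 1), (1 - x ^ d) := by
        rw [prod_image]; intro a _ b _ h; simpa using h
    _ ≤ ∏ d ∈ s, (1 - x ^ d) := by
        rw [← prod_sdiff hN]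
        exact mul_le_of_le_one_left (prod_nonneg fun d _ => h1 d)
          (prod_le_one (fun d _ => h1 d) fun d _ => h2 d)

/-- `q ^ φ n ≤ 4 Φ_n(q)` over the reals. -/
theorem pow_totient_le_four_mul_cyclotomic {q : ℕ} (hq : 2 ≤ q) {n : ℕ} (hn : 0 < n) :
    (q : ℝ) ^ n.totient ≤ 4 * ((cyclotomic n ℝ).eval (q : ℝ)) := by
  have hq1 : (1 : ℝ) < (q : ℝ) := by exact_mod_cast hq
  have hqpos : (0 : ℝ) < (q : ℝ) := by linarith
  set x : ℝ := (q : ℝ)⁻¹ with hx
  have hx0 : 0 ≤ x := by positivity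
  have hxh : x ≤ 1 / 2 := by
    rw [hx, one_div]
    exact inv_anti₀ (by norm_num) (by exact_mod_cast hq)
  have hxlt : ∀ d : ℕ, 0 < d → x ^ d < 1 := fun d hd =>
    pow_lt_one₀ hx0 (by linarith) hd.ne'
  have key : (cyclotomic n ℝ).eval (q : ℝ) =
      ∏ i ∈ n.divisorsAntidiagonal, ((q : ℝ) ^ i.snd - 1) ^ μ i.fst := by
    refine ((ArithmeticFunction.prod_eq_iff_prod_pow_moebius_eq_of_nonzero
      (f := fun d => (cyclotomic d ℝ).eval (q : ℝ)) (g := fun d => (q : ℝ) ^ d - 1)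
      (fun d _ => (cyclotomic_pos' d hq1).ne') (fun d hd => ?_)).1 (fun d hd => ?_) n hn).symm
    · have : (1 : ℝ) < (q : ℝ) ^ d := one_lt_pow₀ hq1 hd.ne'
      exact ne_of_gt (by linarith)
    · rw [← eval_prod, prod_cyclotomic_eq_X_pow_sub_one hd]
      simp
  have hsum : ∑ i ∈ n.divisorsAntidiagonal, (μ i.fst) * (i.snd : ℤ) = (n.totient : ℤ) := by
    have := (ArithmeticFunction.sum_eq_iff_sum_mul_moebius_eq (R := ℤ)
      (f := fun d => (d.totient : ℤ)) (g := fun d => (d : ℤ))).1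
      (fun d _ => by rw [← Nat.cast_sum, Nat.sum_totient]) n hn
    simpa using this
  have hsplit : ∏ i ∈ n.divisorsAntidiagonal, ((q : ℝ) ^ i.snd - 1) ^ μ i.fst =
      (q : ℝ) ^ n.totient * ∏ i ∈ n.divisorsAntidiagonal, (1 - x ^ i.snd) ^ μ i.fst := by
    rw [← zpow_natCast, ← hsum]
    have hz : ∀ (s : Finset (ℕ × ℕ)) (f : ℕ × ℕ → ℤ),
        (q : ℝ) ^ (∑ i ∈ s, f i) = ∏ i ∈ s, (q : ℝ) ^ f i := by
      intro s f
      classical
      induction s using Finset.induction_on with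
      | empty => simp
      | insert a s ha ih => rw [sum_insert ha, prod_insert ha, zpow_add₀ hqpos.ne', ih]
    rw [hz, ← prod_mul_distrib]
    refine prod_congr rfl fun i _ => ?_
    rw [mul_comm (μ i.fst), zpow_mul, ← mul_zpow, zpow_natCast, mul_sub, hx, inv_pow,
      mul_one, mul_inv_cancel₀ (pow_ne_zero _ hqpos.ne')]
  have hnonneg : ∀ i ∈ n.divisorsAntidiagonal, 0 < 1 - x ^ i.snd := by
    intro i hi
    have h := Nat.mem_divisorsAntidiagonal.1 hi
    have : 0 < i.snd := Nat.pos_of_ne_zero fun h0 => h.2 (by rw [← h.1, h0, mul_zero])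
    have := hxlt _ this
    linarith
  have hterm : ∀ i ∈ n.divisorsAntidiagonal, 1 - x ^ i.snd ≤ (1 - x ^ i.snd) ^ μ i.fst := by
    intro i hi
    have hp := hnonneg i hi
    have hle : 1 - x ^ i.snd ≤ 1 := by
      have : 0 ≤ x ^ i.snd := pow_nonneg hx0 _
      linarith
    conv_lhs => rw [← zpow_one (1 - x ^ i.snd)]
    exact zpow_le_zpow_right_of_le_one₀ hp hle
      (le_trans (le_abs_self _) ArithmeticFunction.abs_moebius_le_one)
  have hq4 : (1 : ℝ) / 4 ≤ ∏ i ∈ n.divisorsAntidiagonal, (1 - x ^ i.snd) ^ μ i.fst := by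
    refine le_trans ?_ (prod_le_prod (fun i hi => (hnonneg i hi).le) hterm)
    have himg : ∏ i ∈ n.divisorsAntidiagonal, (1 - x ^ i.snd) =
        ∏ d ∈ n.divisorsAntidiagonal.image Prod.snd, (1 - x ^ d) := by
      rw [prod_image]
      intro a ha b hb hab
      have hA := Nat.mem_divisorsAntidiagonal.1 (Finset.mem_coe.1 ha)
      have hB := Nat.mem_divisorsAntidiagonal.1 (Finset.mem_coe.1 hb)
      have : 0 < b.snd := Nat.pos_of_ne_zero fun h0 => hB.2 (by rw [← hB.1, h0, mul_zero])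
      refine Prod.ext ?_ hab
      have h := hA.1.trans hB.1.symm
      rw [hab] at h
      exact Nat.eq_of_mul_eq_mul_right this h
    rw [himg]
    refine quarter_le_prod_one_sub_pow hx0 hxh _ fun h => ?_
    obtain ⟨i, hi, hi0⟩ := mem_image.1 h
    have h' := Nat.mem_divisorsAntidiagonal.1 hi
    exact h'.2 (by rw [← h'.1, hi0, mul_zero])
  rw [key, hsplit]
  have := pow_pos hqpos n.totient
  nlinarith

/-- The natural number `Φ_n(q)`. -/
noncomputable def cycVal (n q : ℕ) : ℕ := ((cyclotomic n ℤ).eval (q : ℤ)).natAbs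

theorem cast_cycVal_eval {n q : ℕ} (hq : 2 ≤ q) (R : Type*) [CommRing R] :
    (cycVal n q : R) = (cyclotomic n R).eval (q : R) := by
  have hpos : 0 < (cyclotomic n ℤ).eval (q : ℤ) := cyclotomic_pos' n (by exact_mod_cast hq)
  have h1 : ((cycVal n q : ℕ) : ℤ) = (cyclotomic n ℤ).eval (q : ℤ) :=
    Int.natAbs_of_nonneg hpos.le
  rw [← Int.cast_natCast (cycVal n q), h1, ← map_cyclotomic n (Int.castRingHom R), eval_map,
    eval₂_at_natCast]
  rfl

theorem pow_totient_le_cycVal {q n : ℕ} (hq : 2 ≤ q) (hn : 0 < n) :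
    q ^ n.totient ≤ 4 * cycVal n q := by
  have h := pow_totient_le_four_mul_cyclotomic hq hn
  rw [← cast_cycVal_eval hq] at h
  exact_mod_cast h

end CfsgLib.NT
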