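import Mathlib.Data.Nat.Totient
import Mathlib.Data.Nat.Factorization.Induction
import Mathlib.Tactic.Ring
import Mathlib.Tactic.Linarith
import Mathlib.Tactic.Positivity

/-! # `2 n³ ≤ 27 φ(n)⁴` -/

namespace CfsgLib.NT

theorem cube_le_totient_pow_four_aux (n : ℕ) : 0 < n →
    (if 3 ∣ n then 16 else 1) * n ^ 3 ≤
      (if 2 ∣ n then 8 else 1) * (if 3 ∣ n then 27 else 1) * n.totient ^ 4 := by
  induction n using Nat.recOnPosPrimePosCoprime with
  | prime_pow p k hp hk =>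
    intro _
    obtain ⟨j, rfl⟩ : ∃ j, k = j + 1 := ⟨k - 1, by omega⟩
    rw [Nat.totient_prime_pow_succ hp]
    have h2 : 2 ∣ p ^ (j + 1) ↔ 2 = p := by
      rw [Nat.Prime.prime Nat.prime_two |>.dvd_pow_iff_dvd (by omega),
        Nat.prime_dvd_prime_iff_eq Nat.prime_two hp]
    have h3 : 3 ∣ p ^ (j + 1) ↔ 3 = p := by
      rw [Nat.Prime.prime Nat.prime_three |>.dvd_pow_iff_dvd (by omega),
        Nat.prime_dvd_prime_iff_eq Nat.prime_three hp]
    simp only [h2, h3]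
    have e : (p ^ (j + 1)) ^ 3 = p ^ (3 * j) * p ^ 3 := by ring
    have e' : (p ^ j * (p - 1)) ^ 4 = p ^ (4 * j) * (p - 1) ^ 4 := by ring
    have hj : p ^ (3 * j) ≤ p ^ (4 * j) := Nat.pow_le_pow_right hp.pos (by omega)
    rw [e, e']
    rcases eq_or_ne p 2 with rfl | hp2
    · norm_num
      linarith
    rcases eq_or_ne p 3 with rfl | hp3
    · norm_num
      linarith
    have hp5 : 5 ≤ p := by
      have := hp.two_le
      have : p ≠ 4 := fun h => absurd (h ▸ hp) (by decide)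
      omega
    rw [if_neg (Ne.symm hp2), if_neg (Ne.symm hp3), if_neg (Ne.symm hp3), one_mul, one_mul, one_mul]
    refine Nat.mul_le_mul hj ?_
    obtain ⟨t, rfl⟩ : ∃ t, p = t + 5 := ⟨p - 5, by omega⟩
    rw [show t + 5 - 1 = t + 4 by omega]
    nlinarith [Nat.zero_le (t ^ 4), Nat.zero_le (t ^ 3), Nat.zero_le (t ^ 2)]
  | zero => intro h; omega
  | one => intro _; norm_num
  | coprime a b ha hb hab iha ihb =>
    intro _
    have h := Nat.mul_le_mul (iha (by omega)) (ihb (by omega))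
    rw [Nat.totient_mul hab]
    have key : ∀ r : ℕ, r.Prime → ∀ x : ℕ,
        (if r ∣ a * b then x else 1) = (if r ∣ a then x else 1) * (if r ∣ b then x else 1) := by
      intro r hr x
      by_cases h1 : r ∣ a <;> by_cases h2 : r ∣ b <;> simp [hr.dvd_mul, h1, h2]
      exact absurd (Nat.eq_one_of_dvd_coprimes hab h1 h2) hr.one_lt.ne'
    rw [key 2 Nat.prime_two, key 3 Nat.prime_three, key 3 Nat.prime_three]
    calc _ = ((if 3 ∣ a then 16 else 1) * a ^ 3) * ((if 3 ∣ b then 16 else 1) * b ^ 3) := by ring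
      _ ≤ _ := h
      _ = _ := by ring

theorem two_mul_cube_le_totient_pow_four (n : ℕ) : 2 * n ^ 3 ≤ 27 * n.totient ^ 4 := by
  rcases Nat.eq_zero_or_pos n with rfl | hn
  · simp
  have h := cube_le_totient_pow_four_aux n hn
  have h4 : 0 ≤ n.totient ^ 4 := Nat.zero_le _
  split_ifs at h <;> linarith [Nat.zero_le (n ^ 3)]

/-- `14 n² ≤ q ^ φ n` when `φ n ≥ 18`. -/
theorem four_mul_le_pow_totient {q n : ℕ} (hq : 2 ≤ q) (hn : 1 ≤ n) (hphi : 18 ≤ n.totient) :
    4 * n * (3 * n + 1) ≤ q ^ n.totient := by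
  have h := two_mul_cube_le_totient_pow_four n
  have hpow : ∀ f : ℕ, 18 ≤ f → 550000 * f ^ 8 ≤ 2 ^ (3 * f) := by
    intro f hf
    induction f, hf using Nat.le_induction with
    | base => norm_num
    | succ f hf ih =>
      have e : (18 * (f + 1)) ^ 8 ≤ (19 * f) ^ 8 := Nat.pow_le_pow_left (by omega) 8
      have e2 : (19 : ℕ) ^ 8 ≤ 8 * 18 ^ 8 := by norm_num
      rw [mul_pow, mul_pow] at e
      have e3 : (f + 1) ^ 8 ≤ 8 * f ^ 8 := by
        have := Nat.mul_le_mul_right (f ^ 8) e2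
        nlinarith
      calc 550000 * (f + 1) ^ 8 ≤ 8 * (550000 * f ^ 8) := by linarith
        _ ≤ 8 * 2 ^ (3 * f) := by linarith
        _ = 2 ^ (3 * (f + 1)) := by ring
  have h2 : (14 * n ^ 2) ^ 3 ≤ (q ^ n.totient) ^ 3 := by
    calc (14 * n ^ 2) ^ 3 = 686 * (2 * n ^ 3) ^ 2 := by ring
      _ ≤ 686 * (27 * n.totient ^ 4) ^ 2 := by gcongr
      _ = 500094 * n.totient ^ 8 := by ring
      _ ≤ 550000 * n.totient ^ 8 := Nat.mul_le_mul_right _ (by norm_num)
      _ ≤ 2 ^ (3 * n.totient) := hpow _ hphi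
      _ ≤ q ^ (3 * n.totient) := Nat.pow_le_pow_left hq _
      _ = _ := by rw [← pow_mul, mul_comm]
  have h3 := (Nat.pow_le_pow_iff_left (by norm_num : (3 : ℕ) ≠ 0)).1 h2
  have hn18 : 18 ≤ n := hphi.trans (Nat.totient_le n)
  nlinarith

theorem le_ninety_six_of_totient_le {n : ℕ} (h : n.totient ≤ 16) : n ≤ 96 := by
  have h1 := two_mul_cube_le_totient_pow_four n
  have h2 : n.totient ^ 4 ≤ 16 ^ 4 := Nat.pow_le_pow_left h 4
  by_contra hc
  have h3 : 97 ^ 3 ≤ n ^ 3 := Nat.pow_le_pow_left (by omega) 3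
  omega

end CfsgLib.NT
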