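import Cfsg.Agent.NumberTheory.PrimitivePrime
import Cfsg.Agent.NumberTheory.CyclotomicBound
import Cfsg.Agent.NumberTheory.TotientBound
import Mathlib.RingTheory.Polynomial.Cyclotomic.Expand
import Mathlib.NumberTheory.Multiplicity
import Mathlib.Algebra.IsPrimePow

/-!
# The primitive part of `q ^ n - 1`, and Zsigmondy's theorem
-/

open Polynomial Finset

namespace CfsgLib.NT

theorem cycVal_dvd_pow_sub_one {q n : ℕ} (hq : 2 ≤ q) : cycVal n q ∣ q ^ n - 1 := by
  have h := eval_dvd (x := (q : ℤ)) (cyclotomic.dvd_X_pow_sub_one n ℤ)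
  rw [← cast_cycVal_eval hq] at h
  have e : eval (q : ℤ) (X ^ n - 1) = ((q ^ n - 1 : ℕ) : ℤ) := by
    rw [Nat.cast_sub (Nat.one_le_pow _ _ (by omega))]
    simp
  rw [e] at h
  exact Int.natCast_dvd_natCast.1 h

/-- A prime dividing `Φ_n(q)` is primitive or is the largest prime of `n`:
`n = r ^ k * m` with `orderOf q = m ∣ r - 1`. -/
theorem prime_dvd_cycVal {q n r : ℕ} (hq : 2 ≤ q) (hn : 0 < n) (hr : r.Prime)
    (h : r ∣ cycVal n q) :
    ∃ k m : ℕ, n = r ^ k * m ∧ ¬ r ∣ m ∧ orderOf (q : ZMod r) = m ∧ m ∣ r - 1 := by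
  have := Fact.mk hr
  obtain ⟨k, m, hm, hnm⟩ := Nat.exists_eq_pow_mul_and_not_dvd hn.ne' r hr.ne_one
  have h0 : (cyclotomic n (ZMod r)).IsRoot (q : ZMod r) := by
    rw [IsRoot.def, ← cast_cycVal_eval hq]
    exact (ZMod.natCast_eq_zero_iff _ _).2 h
  have hne : NeZero (m : ZMod r) := ⟨fun h0 => hm ((ZMod.natCast_eq_zero_iff _ _).1 h0)⟩
  rw [hnm, isRoot_cyclotomic_prime_pow_mul_iff_of_charP] at h0
  refine ⟨k, m, hnm, hm, h0.eq_orderOf.symm, ?_⟩
  rw [h0.eq_orderOf]
  exact orderOf_dvd_prime_sub_one hr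
    (primitive_not_dvd_base hq hn hr (h.trans (cycVal_dvd_pow_sub_one hq)))

/-- For `n ≥ 3`, a prime divisor of `n` divides `Φ_n(q)` at most once. -/
theorem sq_not_dvd_cycVal {q n r : ℕ} (hq : 2 ≤ q) (hn : 3 ≤ n) (hr : r.Prime) (hrn : r ∣ n) :
    ¬ r ^ 2 ∣ cycVal n q := by
  intro h
  have hr1 : r ∣ cycVal n q := (dvd_pow_self r two_ne_zero).trans h
  obtain ⟨k, m, hnm, hrm, hord, hmr⟩ := prime_dvd_cycVal hq (by omega) hr hr1
  have hk : k ≠ 0 := by
    rintro rfl
    rw [pow_zero, one_mul] at hnm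
    exact hrm (hnm ▸ hrn)
  obtain ⟨j, rfl⟩ : ∃ j, k = j + 1 := ⟨k - 1, by omega⟩
  have hm0 : m ≠ 0 := fun h => by simp [h] at hnm; omega
  set d := r ^ j * m with hd
  have hnd : n = d * r := by rw [hnm, hd, pow_succ]; ring
  have hd0 : d ≠ 0 := fun h => by rw [h, zero_mul] at hnd; omega
  have hdn : d ∣ n := ⟨r, hnd⟩
  have hdlt : d < n := by
    rw [hnd]; exact lt_mul_of_one_lt_right (Nat.pos_of_ne_zero hd0) hr.one_lt
  set x : ℤ := (q : ℤ) ^ d with hx
  have hx1 : 1 < x := one_lt_pow₀ (by exact_mod_cast hq) hd0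
  have hdvd : (cycVal n q : ℤ) ∣ ∑ i ∈ range r, x ^ i := by
    have h1 := eval_dvd (x := (q : ℤ)) (X_pow_sub_one_mul_cyclotomic_dvd_X_pow_sub_one_of_dvd ℤ
      (Nat.mem_properDivisors.2 ⟨hdn, hdlt⟩))
    rw [eval_mul, ← cast_cycVal_eval hq] at h1
    simp only [eval_sub, eval_pow, eval_X, eval_one] at h1
    rw [show (q : ℤ) ^ n = x ^ r by rw [hx, ← pow_mul, ← hnd], ← mul_geom_sum x r] at h1
    rw [← hx] at h1
    exact (mul_dvd_mul_iff_left (by intro h0; linarith)).1 h1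
  have hS : ((r : ℤ) ^ 2) ∣ ∑ i ∈ range r, x ^ i :=
    dvd_trans (by exact_mod_cast Int.natCast_dvd_natCast.2 h) hdvd
  have hxr : (r : ℤ) ∣ x - 1 := by
    rw [← ZMod.intCast_zmod_eq_zero_iff_dvd]
    push_cast [hx]
    rw [sub_eq_zero, ← orderOf_dvd_iff_pow_eq_one, hord]
    exact dvd_mul_left m _
  rcases hr.eq_two_or_odd' with rfl | hodd
  · have hm1 : m = 1 := Nat.dvd_one.1 hmr
    have hj : 1 ≤ j := by
      by_contra hc
      have : j = 0 := by omega
      subst this hm1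
      norm_num at hnm
      omega
    have hxodd : ¬ Even ((q : ℤ)) := by
      intro he
      have hev : Even x := by rw [hx]; exact he.pow_of_ne_zero hd0
      obtain ⟨c, hc⟩ := hev
      have h2 : (2 : ℤ) ∣ x - 1 := by exact_mod_cast hxr
      omega
    rw [Int.not_even_iff_odd] at hxodd
    have hsq : x % 4 = 1 := by
      have hd2 : d = 2 ^ (j - 1) * 2 := by
        rw [hd, hm1, mul_one, ← pow_succ]; congr 1; omega
      rw [hx, hd2, pow_mul]
      exact Int.sq_mod_four_eq_one_of_odd hxodd.pow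
    simp [Finset.sum_range_succ] at hS
    omega
  · obtain ⟨b, hb⟩ := hxr
    have h2 := odd_sq_dvd_geom_sum₂_sub (1 : ℤ) b hodd
    simp only [one_pow, mul_one] at h2
    rw [← hb, add_sub_cancel] at h2
    have h3 : (r : ℤ) ^ 2 ∣ (r : ℤ) := by simpa using dvd_sub hS h2
    have h4 : r ^ 2 ∣ r := by exact_mod_cast h3
    have h5 := Nat.le_of_dvd hr.pos h4
    have := hr.two_le
    nlinarith

/-- For `n ≥ 3` there is a primitive divisor of `q ^ n - 1` (i.e. coprime to every `q ^ i - 1`,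
`1 ≤ i < n`) of size at least `q ^ φ n / (4 n)`. -/
theorem exists_primitive_divisor_ge {q n : ℕ} (hq : 2 ≤ q) (hn : 3 ≤ n) :
    ∃ M : ℕ, M ∣ q ^ n - 1 ∧ (∀ i : ℕ, 1 ≤ i → i < n → Nat.Coprime M (q ^ i - 1)) ∧
      q ^ n.totient ≤ 4 * n * M := by
  have hN := cycVal_dvd_pow_sub_one (n := n) hq
  have hbd := pow_totient_le_cycVal hq (show 0 < n by omega)
  have prim : ∀ M, M ∣ cycVal n q → (∀ r, r.Prime → r ∣ M → ¬ r ∣ n) →
      ∀ i : ℕ, 1 ≤ i → i < n → Nat.Coprime M (q ^ i - 1) := by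
    intro M hM hndvd i hi hin
    refine Nat.coprime_of_dvd fun r hr hrM hri => hndvd r hr hrM ?_
    obtain ⟨k, m, hnm, hrm, hord, hmr⟩ :=
      prime_dvd_cycVal hq (by omega) hr (hrM.trans hM)
    rcases k with _ | k
    · rw [pow_zero, one_mul] at hnm
      rw [dvd_pow_sub_one_iff_orderOf (by omega), hord, ← hnm] at hri
      exact absurd (Nat.le_of_dvd hi hri) (by omega)
    · exact hnm ▸ Dvd.dvd.mul_right (dvd_pow_self r (Nat.succ_ne_zero k)) m
  by_cases hex : ∃ r : ℕ, r.Prime ∧ r ∣ n ∧ r ∣ cycVal n q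
  · obtain ⟨r, hr, hrn, M, hM⟩ := hex
    have hMd : M ∣ cycVal n q := ⟨r, by rw [hM]; ring⟩
    refine ⟨M, hMd.trans hN, prim M hMd fun s hs hsM hsn => ?_, ?_⟩
    · -- `r` and `s` are both the largest prime of `n`
      have key : ∀ u w : ℕ, u.Prime → w.Prime → u ∣ n → w ∣ n → u ∣ cycVal n q → w ≤ u := by
        intro u w hu hw hun hwn hud
        obtain ⟨k, m, hnm, -, -, hmr⟩ := prime_dvd_cycVal hq (by omega) hu hud
        rw [hnm] at hwn
        rcases hw.dvd_mul.1 hwn with h' | h'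
        · exact le_of_eq ((Nat.prime_dvd_prime_iff_eq hw hu).1 (hw.dvd_of_dvd_pow h'))
        · have := hu.two_le
          have := Nat.le_of_dvd (by omega) (h'.trans hmr)
          omega
      have hrs : s = r := le_antisymm (key r s hr hs hrn hsn ⟨M, hM⟩)
        (key s r hs hr hsn hrn (hsM.trans hMd))
      subst hrs
      refine sq_not_dvd_cycVal hq hn hr hrn ?_
      rw [hM, pow_two]
      exact mul_dvd_mul_left _ hsM
    · calc q ^ n.totient ≤ 4 * cycVal n q := hbd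
        _ = 4 * r * M := by rw [hM, mul_assoc]
        _ ≤ 4 * n * M := by
            gcongr
            exact Nat.le_of_dvd (by omega) hrn
  · refine ⟨cycVal n q, hN, prim _ dvd_rfl fun r hr h1 h2 => hex ⟨r, hr, h2, h1⟩, ?_⟩
    calc q ^ n.totient ≤ 4 * cycVal n q := hbd
      _ ≤ 4 * n * cycVal n q := by
          gcongr
          omega

/-- The thirteen exceptional pairs. -/
def exceptionalPairs : List (ℕ × ℕ) :=
  [(2, 6), (2, 4), (2, 10), (2, 12), (2, 18), (3, 4), (3, 6), (5, 6), (2, 3), (2, 8), (2, 20),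
    (4, 3), (4, 6)]

/-- Divide `m` by `gcd m d`, `fuel` times. -/
def stripGcd : ℕ → ℕ → ℕ → ℕ
  | 0, m, _ => m
  | fuel + 1, m, d => stripGcd fuel (m / Nat.gcd m d) d

/-- The primitive part of `q ^ n - 1`, computed. -/
def primPartComp (q n : ℕ) : ℕ :=
  (List.range n).foldl (fun m i => if i = 0 then m else stripGcd 8 m (q ^ i - 1)) (q ^ n - 1)

/-- The check on one pair. -/
def chkPair (q n : ℕ) : Bool :=
  let m := primPartComp q n
  exceptionalPairs.contains (q, n) ||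
    ((q ^ n - 1) % m == 0 && decide (3 * n + 1 ≤ m) &&
      (List.range n).all fun i => i == 0 || Nat.gcd m (q ^ i - 1) == 1)

/-- The check on all the small pairs. -/
def chkTable : Bool :=
  (List.range 97).all fun n =>
    decide (n < 3) ||
      let f := n.totient
      decide (17 ≤ f) ||
        (List.range 22).all fun q =>
          decide (q < 2) || decide (4 * n * (3 * n + 1) ≤ q ^ f) || chkPair q n

theorem chkTable_eq : chkTable = true := by decide +kernel

/-- Outside thirteen pairs `(q, n)`, `q ^ n - 1` has a primitive divisor `≥ 3 n + 1` (`n ≥ 3`,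
any `q ≥ 2`). -/
theorem exists_primitive_divisor_large {q n : ℕ} (hq : 2 ≤ q) (hn : 3 ≤ n)
    (hex : (q, n) ∉ exceptionalPairs) :
    ∃ M : ℕ, M ∣ q ^ n - 1 ∧ (∀ i : ℕ, 1 ≤ i → i < n → Nat.Coprime M (q ^ i - 1)) ∧
      3 * n + 1 ≤ M := by
  by_cases hbig : 4 * n * (3 * n + 1) ≤ q ^ n.totient
  · obtain ⟨M, h1, h2, h3⟩ := exists_primitive_divisor_ge hq hn
    exact ⟨M, h1, h2, Nat.le_of_mul_le_mul_left (hbig.trans h3) (by omega)⟩
  have hphi : n.totient ≤ 16 := by
    by_contra h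
    have : n.totient ≠ 17 := fun h17 => by
      have := Nat.totient_even (show 2 < n by omega)
      rw [h17] at this
      exact absurd this (by decide)
    exact hbig (four_mul_le_pow_totient hq (by omega) (by omega))
  have hn96 := le_ninety_six_of_totient_le hphi
  have hphi2 : 2 ≤ n.totient := by
    obtain ⟨c, hc⟩ := Nat.totient_even (show 2 < n by omega)
    have := Nat.totient_pos.2 (show 0 < n by omega)
    omega
  have hq22 : q < 22 := by
    by_contra hc
    apply hbig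
    rcases Nat.lt_or_ge n 7 with h7 | h7
    · calc 4 * n * (3 * n + 1) ≤ 22 ^ 2 := by nlinarith
        _ ≤ 22 ^ n.totient := Nat.pow_le_pow_right (by norm_num) hphi2
        _ ≤ q ^ n.totient := Nat.pow_le_pow_left (by omega) _
    · have h4 : 4 ≤ n.totient := by
        have h := two_mul_cube_le_totient_pow_four n
        by_contra h4
        obtain ⟨c, hc⟩ := Nat.totient_even (show 2 < n by omega)
        have : n.totient = 2 := by omega
        rw [this] at h
        have : 7 ^ 3 ≤ n ^ 3 := Nat.pow_le_pow_left h7 3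
        omega
      calc 4 * n * (3 * n + 1) ≤ 22 ^ 4 := by nlinarith
        _ ≤ 22 ^ n.totient := Nat.pow_le_pow_right (by norm_num) h4
        _ ≤ q ^ n.totient := Nat.pow_le_pow_left (by omega) _
  have h := chkTable_eq
  unfold chkTable at h
  rw [List.all_eq_true] at h
  have h1 := h n (List.mem_range.2 (by omega))
  simp only [Bool.or_eq_true, decide_eq_true_eq, List.all_eq_true] at h1
  rcases h1 with h1 | h1 | h1
  · omega
  · omega
  have h2 := h1 q (List.mem_range.2 hq22)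
  rcases h2 with (h2 | h2) | h2
  · omega
  · exact absurd h2 hbig
  simp only [chkPair, Bool.or_eq_true, Bool.and_eq_true, decide_eq_true_eq, beq_iff_eq,
    List.all_eq_true, List.contains_iff_mem] at h2
  rcases h2 with h2 | ⟨⟨h3, h4⟩, h5⟩
  · exact absurd h2 hex
  refine ⟨_, Nat.dvd_of_mod_eq_zero h3, fun i hi hin => ?_, h4⟩
  rcases h5 i (List.mem_range.2 hin) with h6 | h6
  · omega
  · exact h6

/-- For `n ≥ 3` outside `(q, n) = (2, 6)` there is a primitive divisor `> 1`. -/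
theorem exists_primitive_divisor_gt_one {q n : ℕ} (hq : 2 ≤ q) (hn : 3 ≤ n)
    (hex : ¬ (q = 2 ∧ n = 6)) :
    ∃ M : ℕ, M ∣ q ^ n - 1 ∧ (∀ i : ℕ, 1 ≤ i → i < n → Nat.Coprime M (q ^ i - 1)) ∧
      n < M := by
  by_cases h : (q, n) ∈ exceptionalPairs
  · suffices hsuff : ((q ^ n - 1) % primPartComp q n = 0 ∧
        ∀ i ∈ List.range n, i = 0 ∨ Nat.gcd (primPartComp q n) (q ^ i - 1) = 1) ∧
        n < primPartComp q n from
      ⟨_, Nat.dvd_of_mod_eq_zero hsuff.1.1, fun i hi hin => (hsuff.1.2 i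
        (List.mem_range.2 hin)).resolve_left (by omega), hsuff.2⟩
    simp only [exceptionalPairs, List.mem_cons, Prod.mk.injEq, List.not_mem_nil, or_false] at h
    rcases h with h | h | h | h | h | h | h | h | h | h | h | h | h <;> obtain ⟨rfl, rfl⟩ := h
    all_goals first
      | exact absurd ⟨rfl, rfl⟩ hex
      | decide +kernel
  · obtain ⟨M, h1, h2, h3⟩ := exists_primitive_divisor_large hq hn h
    exact ⟨M, h1, h2, by omega⟩

/-- An odd prime dividing `q + 1` is primitive for `q ^ 2 - 1`. -/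
theorem primitive_two_of_dvd_add_one {q r : ℕ} (hq : 2 ≤ q) (hr : r.Prime) (hr2 : r ≠ 2)
    (h : r ∣ q + 1) : r ∣ q ^ 2 - 1 ∧ ∀ k : ℕ, 0 < k → k < 2 → ¬ r ∣ q ^ k - 1 := by
  refine ⟨h.trans ⟨q - 1, by simpa using Nat.sq_sub_sq q 1⟩, fun k hk hk2 hd => ?_⟩
  obtain rfl : k = 1 := by omega
  rw [pow_one] at hd
  have h3 := Nat.dvd_sub h hd
  rw [show q + 1 - (q - 1) = 2 by omega] at h3
  exact hr2 ((Nat.prime_dvd_prime_iff_eq hr Nat.prime_two).1 h3)

/-- **Zsigmondy's theorem** for `q ^ n - 1`. -/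
theorem exists_primitive_prime {q n : ℕ} (hq : 2 ≤ q) (hn : 2 ≤ n) (h6 : ¬ (q = 2 ∧ n = 6))
    (h2 : ¬ (n = 2 ∧ ∃ m : ℕ, q + 1 = 2 ^ m)) :
    ∃ r : ℕ, r.Prime ∧ r ∣ q ^ n - 1 ∧ ∀ k : ℕ, 0 < k → k < n → ¬ r ∣ q ^ k - 1 := by
  rcases Nat.lt_or_ge n 3 with hn3 | hn3
  · obtain rfl : n = 2 := by omega
    by_cases hex : ∃ r, r.Prime ∧ r ≠ 2 ∧ r ∣ q + 1
    · obtain ⟨r, hr, hr2, hrd⟩ := hex
      exact ⟨r, hr, primitive_two_of_dvd_add_one hq hr hr2 hrd⟩
    · refine absurd ⟨rfl, (q + 1).primeFactorsList.length, ?_⟩ h2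
      exact Nat.eq_prime_pow_of_unique_prime_dvd (by omega) fun {d} hd hdd => by
        by_contra hc
        exact hex ⟨d, hd, hc, hdd⟩
  · obtain ⟨M, h1, hc, hM⟩ := exists_primitive_divisor_gt_one hq hn3 h6
    obtain ⟨r, hr, hrM⟩ := Nat.exists_prime_and_dvd (show M ≠ 1 by omega)
    exact ⟨r, hr, primitive_of_dvd_primitive_part hr h1 hc hrM⟩

/-- A divisor of `q ^ e - 1` coprime to all `q ^ i - 1`, `1 ≤ i < e`, is `≡ 1 [MOD e]`. -/
theorem primitive_divisor_mod_eq_one {q e : ℕ} (hq : 2 ≤ q) (he : 1 ≤ e) :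
    ∀ m : ℕ, m ∣ q ^ e - 1 → (∀ i : ℕ, 1 ≤ i → i < e → Nat.Coprime m (q ^ i - 1)) →
      m % e = 1 % e := by
  intro m
  induction m using Nat.recOnMul with
  | zero =>
    intro h _
    have h1 : q ^ e - 1 = 0 := Nat.eq_zero_of_zero_dvd h
    have := Nat.one_lt_pow (show e ≠ 0 by omega) (show 1 < q by omega)
    omega
  | one => intro _ _; rfl
  | prime p hp =>
    intro h hc
    obtain ⟨h1, h2⟩ := primitive_of_dvd_primitive_part hp h hc dvd_rfl
    exact ((Nat.modEq_iff_dvd' hp.one_lt.le).2 (primitive_dvd_sub_one hq he hp h1 h2)).symm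
  | mul a b ha hb =>
    intro h hc
    have h1 := ha (dvd_of_mul_right_dvd h) fun i hi hie =>
      Nat.Coprime.coprime_dvd_left (dvd_mul_right a b) (hc i hi hie)
    have h2 := hb (dvd_of_mul_left_dvd h) fun i hi hie =>
      Nat.Coprime.coprime_dvd_left (dvd_mul_left b a) (hc i hi hie)
    rw [Nat.mul_mod, h1, h2, ← Nat.mul_mod, mul_one]

end CfsgLib.NT
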