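import Mathlib.FieldTheory.Finite.Basic
import Mathlib.GroupTheory.OrderOfElement
import Mathlib.Data.Nat.Prime.Int
import Mathlib.Data.ZMod.Basic
import Mathlib.Tactic.NormNum
import Mathlib.Tactic.IntervalCases
import Mathlib.Tactic.Linarith

/-!
# Primitive prime divisors: basic API

`r` is a primitive prime divisor of `q ^ n - 1` when `r ∣ q ^ n - 1` and `r` divides
`q ^ k - 1` for no `0 < k < n`; equivalently `orderOf (q : ZMod r) = n`.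
-/

namespace CfsgLib.NT

theorem dvd_pow_sub_one_iff_cast {q r k : ℕ} (hq : 1 ≤ q) :
    r ∣ q ^ k - 1 ↔ (q : ZMod r) ^ k = 1 := by
  have h := (ZMod.natCast_eq_natCast_iff' (q ^ k) 1 r)
  rw [← sub_eq_zero (a := (q : ZMod r) ^ k)]
  rw [← ZMod.natCast_eq_zero_iff, Nat.cast_sub (Nat.one_le_pow _ _ hq)]
  push_cast
  rfl

theorem dvd_pow_sub_one_iff_orderOf {q r k : ℕ} (hq : 1 ≤ q) :
    r ∣ q ^ k - 1 ↔ orderOf (q : ZMod r) ∣ k := by
  rw [dvd_pow_sub_one_iff_cast hq, orderOf_dvd_iff_pow_eq_one]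

/-- Primitive prime divisors are exactly the primes modulo which `q` has order `n`. -/
theorem orderOf_eq_iff_primitive {q r n : ℕ} (hq : 1 ≤ q) (hn : 0 < n) :
    orderOf (q : ZMod r) = n ↔
      r ∣ q ^ n - 1 ∧ ∀ k : ℕ, 0 < k → k < n → ¬ r ∣ q ^ k - 1 := by
  constructor
  · intro h
    refine ⟨(dvd_pow_sub_one_iff_orderOf hq).2 (h ▸ dvd_rfl), fun k hk hkn hd => ?_⟩
    rw [dvd_pow_sub_one_iff_orderOf hq, h] at hd
    exact absurd (Nat.le_of_dvd hk hd) (not_le.2 hkn)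
  · rintro ⟨h1, h2⟩
    rw [dvd_pow_sub_one_iff_orderOf hq] at h1
    refine le_antisymm (Nat.le_of_dvd hn h1) (not_lt.1 fun hlt => ?_)
    exact h2 _ (Nat.pos_of_dvd_of_pos h1 hn) hlt ((dvd_pow_sub_one_iff_orderOf hq).2 dvd_rfl)

/-- A primitive prime divisor of `q ^ n - 1` divides `q ^ k - 1` iff `n ∣ k`. -/
theorem primitive_dvd_pow_sub_one_iff {q r n k : ℕ} (hq : 1 ≤ q) (hn : 0 < n)
    (h1 : r ∣ q ^ n - 1) (h2 : ∀ k : ℕ, 0 < k → k < n → ¬ r ∣ q ^ k - 1) :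
    r ∣ q ^ k - 1 ↔ n ∣ k := by
  rw [dvd_pow_sub_one_iff_orderOf hq, (orderOf_eq_iff_primitive hq hn).2 ⟨h1, h2⟩]

theorem primitive_not_dvd_base {q r n : ℕ} (hq : 2 ≤ q) (hn : 0 < n) (hr : r.Prime)
    (h1 : r ∣ q ^ n - 1) : ¬ r ∣ q := fun h => by
  have h3 : r ∣ q ^ n := dvd_pow h hn.ne'
  have h4 := Nat.dvd_sub h3 h1
  rw [Nat.sub_sub_self (Nat.one_le_pow _ _ (by omega))] at h4
  exact hr.not_dvd_one h4

theorem orderOf_dvd_prime_sub_one {q r : ℕ} (hr : r.Prime) (h : ¬ r ∣ q) :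
    orderOf (q : ZMod r) ∣ r - 1 := by
  have := Fact.mk hr
  exact orderOf_dvd_of_pow_eq_one
    (ZMod.pow_card_sub_one_eq_one fun h0 => h ((ZMod.natCast_eq_zero_iff _ _).1 h0))

/-- A primitive prime divisor of `q ^ n - 1` is congruent to `1` modulo `n`. -/
theorem primitive_dvd_sub_one {q r n : ℕ} (hq : 2 ≤ q) (hn : 0 < n) (hr : r.Prime)
    (h1 : r ∣ q ^ n - 1) (h2 : ∀ k : ℕ, 0 < k → k < n → ¬ r ∣ q ^ k - 1) :
    n ∣ r - 1 := by
  have h := orderOf_dvd_prime_sub_one hr (primitive_not_dvd_base hq hn hr h1)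
  rwa [(orderOf_eq_iff_primitive (by omega) hn).2 ⟨h1, h2⟩] at h

theorem primitive_gt {q r n : ℕ} (hq : 2 ≤ q) (hn : 0 < n) (hr : r.Prime)
    (h1 : r ∣ q ^ n - 1) (h2 : ∀ k : ℕ, 0 < k → k < n → ¬ r ∣ q ^ k - 1) :
    n < r := by
  have h := Nat.le_of_dvd (by have := hr.two_le; omega) (primitive_dvd_sub_one hq hn hr h1 h2)
  omega

/-- If `m` divides `q ^ n - 1` and is coprime to every `q ^ i - 1`, `1 ≤ i < n`, then every prime
divisor of `m` is a primitive prime divisor. -/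
theorem primitive_of_dvd_primitive_part {q n m r : ℕ} (hr : r.Prime) (hm : m ∣ q ^ n - 1)
    (hcop : ∀ i : ℕ, 1 ≤ i → i < n → Nat.Coprime m (q ^ i - 1)) (hrm : r ∣ m) :
    r ∣ q ^ n - 1 ∧ ∀ k : ℕ, 0 < k → k < n → ¬ r ∣ q ^ k - 1 := by
  refine ⟨hrm.trans hm, fun k hk hkn h => ?_⟩
  exact hr.not_dvd_one ((Nat.Coprime.eq_one_of_dvd (Nat.Coprime.coprime_dvd_left hrm (hcop k hk hkn)) h) ▸ dvd_rfl)

end CfsgLib.NT
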