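import Mathlib
import Cfsg.Agent.Lib.Char.Basic
import Cfsg.Agent.Lib.Char.Orth
import Cfsg.Agent.Lib.Char.Linear
import Cfsg.Agent.Lib.Char.Integral
import Cfsg.Agent.Lib.Char.Induced
import Cfsg.Agent.Lib.Char.Constituent
import Cfsg.Agent.Lib.CharDeep.Galois.CharAut
import Cfsg.Agent.Lib.CharDeep.Galois.ComplexAut

/-!
# No simple `{2, 3, 11}`-group of degree 22 with a self-centralising element of order 11
-/

set_option autoImplicit false

namespace CfsgLib.NumberTheory.DegreeTwentyTwo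

open CfsgLib Module Finset
open scoped ComplexConjugate

universe u

variable {G : Type u} [Group G] [Fintype G]

theorem sum_pow_eq_ite {z : ℂ} (hz : z ^ 11 = 1) :
    ∑ k ∈ range 11, z ^ k = if z = 1 then 11 else 0 := by
  split_ifs with h
  · simp [h]
  · rw [geom_sum_eq h, hz, sub_self, zero_div]

theorem involution_central {G : Type u} [Group G] [Fintype G] (ρ : Representation ℂ G (Fin 2 → ℂ))
    (hinj : Function.Injective ρ) (hdet : ∀ g, LinearMap.det (ρ g) = 1) {u : G}
    (hu : u * u = 1) : u ∈ Subgroup.center G := by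
  set A := LinearMap.toMatrix' (ρ u) with hA
  have h1 : A * A = 1 := by
    rw [hA, ← LinearMap.toMatrix'_comp, ← Module.End.mul_eq_comp, ← map_mul, hu, map_one,
      Module.End.one_eq_id, LinearMap.toMatrix'_id]
  have h2 : A.det = 1 := by rw [hA, LinearMap.det_toMatrix']; exact hdet u
  rw [Matrix.det_fin_two] at h2
  have e00 := congrFun (congrFun h1 0) 0
  have e01 := congrFun (congrFun h1 0) 1
  have e10 := congrFun (congrFun h1 1) 0
  have e11 := congrFun (congrFun h1 1) 1
  simp [Matrix.mul_apply, Fin.sum_univ_two] at e00 e01 e10 e11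
  have ht : A 0 0 + A 1 1 ≠ 0 := by
    intro ht
    have : A 1 1 = -A 0 0 := by linear_combination ht
    rw [this] at h2
    have : (2 : ℂ) = 0 := by linear_combination (-1 : ℂ) * h2 - e00
    norm_num at this
  have hb : A 0 1 = 0 := by
    have : A 0 1 * (A 0 0 + A 1 1) = 0 := by linear_combination e01
    exact (mul_eq_zero.1 this).resolve_right ht
  have hc : A 1 0 = 0 := by
    have : A 1 0 * (A 0 0 + A 1 1) = 0 := by linear_combination e10
    exact (mul_eq_zero.1 this).resolve_right ht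
  have hd : A 1 1 = A 0 0 := by
    rw [hb, hc] at e00
    rw [hb, hc] at h2
    have : A 0 0 ≠ 0 := fun h0 => by rw [h0] at h2; simp at h2
    apply mul_left_cancel₀ this
    linear_combination h2 - e00
  have hs : A = A 0 0 • (1 : Matrix (Fin 2) (Fin 2) ℂ) := by
    ext i j
    fin_cases i <;> fin_cases j <;> simp [hb, hc, hd]
  rw [Subgroup.mem_center_iff]
  intro g
  refine hinj (LinearMap.toMatrix'.injective ?_)
  rw [map_mul ρ g u, map_mul ρ u g, Module.End.mul_eq_comp, Module.End.mul_eq_comp, LinearMap.toMatrix'_comp,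
    LinearMap.toMatrix'_comp, ← hA, hs, Matrix.mul_smul, Matrix.smul_mul, mul_one, one_mul]

/-- The weighted estimate on multiplicities. -/
theorem sum_sq_lower {ι : Type*} (s : Finset ι) (a : ι → ℕ) (c : ℕ) :
    (2 * c + 1) * ∑ i ∈ s, a i ≤ ∑ i ∈ s, a i * a i + s.card * (c * (c + 1)) := by
  rw [Finset.card_eq_sum_ones, Finset.sum_mul, ← Finset.sum_add_distrib, Finset.mul_sum]
  refine Finset.sum_le_sum fun i _ => ?_
  rcases le_or_gt (a i) c with h | h
  · obtain ⟨e, he⟩ := Nat.le.dest h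
    rw [← he]; nlinarith
  · obtain ⟨e, he⟩ := Nat.le.dest h
    rw [← he]; nlinarith

theorem zmod_orbit : ∀ i j : ZMod 11, i.val ∈ Finset.Icc 1 5 → j.val ∈ Finset.Icc 1 5 → i ≠ j →
    ∀ t : ZMod 11, t ≠ 0 → ∃ n : Fin 5, t = (j * i⁻¹) ^ (n : ℕ) ∨ t = -(j * i⁻¹) ^ (n : ℕ) := by
  decide +kernel

variable [IsSimpleGroup G] (hG : ¬ IsMulCommutative G) {σ g₀ : G} (ho : orderOf σ = 11)
  (hC : Nat.card (Subgroup.centralizer ({σ} : Set G)) = 11) (hinv : g₀ * σ * g₀⁻¹ = σ⁻¹)

include hG ho hC hinv in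
/-- A character of small smooth degree is nonnegative on average over the element of order 11. -/
theorem deg_le {χ : G → ℂ} (hχ : Cfsg.IsIrrCharacter G χ) (hne : χ ≠ fun _ => 1) {d : ℕ}
    (hd : χ 1 = d) (hdmem : d ∈ ({1, 2, 3, 4, 6, 8, 9, 11, 12, 16, 18} : Finset ℕ)) :
    ∃ a₀ : ℕ, ∑ k ∈ range 11, χ (σ ^ k) = 11 * (a₀ : ℂ) ∧ d ≤ 11 * a₀ := by
  classical
  haveI : Fact (Nat.Prime 11) := ⟨by norm_num⟩
  obtain ⟨n, ρ, hρ, rfl⟩ := id hχ
  haveI := hρ
  have hnd : n = d := by
    rw [Representation.char_one, finrank_fin_fun] at hd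
    exact_mod_cast hd
  subst hnd
  have hfr : finrank ℂ (Fin n → ℂ) = n := finrank_fin_fun ℂ
  obtain ⟨μ, hμ, hval⟩ := Char.exists_eigenvalues ρ σ
  rw [ho] at hμ
  set a₀ := (univ.filter fun i => μ i = 1).card with ha₀
  have hsum : ∑ k ∈ range 11, ρ.character (σ ^ k) = 11 * (a₀ : ℂ) := by
    simp only [hval]
    rw [Finset.sum_comm, Finset.sum_congr rfl fun i _ => sum_pow_eq_ite (hμ i), ha₀,
      Finset.card_filter]
    push_cast
    rw [Finset.mul_sum]
    exact Finset.sum_congr rfl fun i _ => by split_ifs <;> simp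
  refine ⟨a₀, hsum, ?_⟩
  by_contra hlt
  rw [not_le] at hlt
  have hd1 : n ≠ 1 := by
    intro h1
    obtain ⟨φ, hφ⟩ := Char.exists_hom_of_apply_one_eq_one (Char.IsIrrCharacter.isCharacter hχ)
      (by rw [hd, h1, Nat.cast_one])
    apply hne
    rw [hφ]
    funext g
    rcases (inferInstance : φ.ker.Normal).eq_bot_or_eq_top with h | h
    · refine absurd ⟨⟨fun a b => (MonoidHom.ker_eq_bot_iff _).1 h ?_⟩⟩ hG
      rw [map_mul, map_mul, mul_comm]
    · rw [MonoidHom.mem_ker.1 (h ▸ Subgroup.mem_top g : g ∈ φ.ker), Units.val_one]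
  -- faithfulness
  have hinj : Function.Injective ρ := by
    rcases (inferInstance : ρ.ker.Normal).eq_bot_or_eq_top with h | h
    · exact (MonoidHom.ker_eq_bot_iff _).1 h
    · exfalso
      have hall : ∀ g, ρ.character g = (n : ℂ) := fun g => by
        simp only [Representation.character]
        rw [MonoidHom.mem_ker.1 (h ▸ Subgroup.mem_top g : g ∈ ρ.ker), LinearMap.trace_one, hfr]
      have h0 := Char.classInner_irr_ne hχ Char.isIrrCharacter_one hne
      rw [Char.classInner_fun_one_right] at h0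
      rw [Finset.sum_congr rfl fun g _ => hall g, Finset.sum_const, Finset.card_univ,
        ← Nat.card_eq_fintype_card, nsmul_eq_mul, ← mul_assoc,
        inv_mul_cancel₀ Char.card_ne_zero, one_mul] at h0
      have : n = 0 := by exact_mod_cast h0
      omega
  -- determinant
  let D : G →* ℂ := LinearMap.det.comp ρ
  have hdet : ∀ g, LinearMap.det (ρ g) = 1 := fun g => by
    rcases (inferInstance : D.toHomUnits.ker.Normal).eq_bot_or_eq_top with h | h
    · refine absurd ⟨⟨fun a b => (MonoidHom.ker_eq_bot_iff _).1 h ?_⟩⟩ hG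
      rw [map_mul, map_mul, mul_comm]
    · exact congrArg Units.val (MonoidHom.mem_ker.1 (h ▸ Subgroup.mem_top g : g ∈ D.toHomUnits.ker))
  have hd2 : n ≠ 2 := by
    intro h2
    subst h2
    obtain ⟨u, hu⟩ := exists_prime_orderOf_dvd_card' (G := G) 2 (by
      have h1 : orderOf g₀ ∣ Nat.card G := orderOf_dvd_natCard g₀
      by_contra h2
      have hodd : ¬ 2 ∣ orderOf g₀ := fun h => h2 (h.trans h1)
      have hsq : g₀ ^ 2 * σ * (g₀ ^ 2)⁻¹ = σ := by
        rw [pow_two, mul_inv_rev, show g₀ * g₀ * σ * (g₀⁻¹ * g₀⁻¹) = g₀ * (g₀ * σ * g₀⁻¹) * g₀⁻¹ by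
          group, hinv, ← conj_inv, hinv, inv_inv]
      have hc : g₀ ^ 2 ∈ Subgroup.centralizer ({σ} : Set G) :=
        Subgroup.mem_centralizer_singleton_iff.2 (mul_inv_eq_iff_eq_mul.1 hsq)
      obtain ⟨m, hm⟩ : ∃ m, (g₀ ^ 2) ^ m = g₀ := exists_pow_eq_self_of_coprime
        ((Nat.prime_two.coprime_iff_not_dvd).2 hodd)
      have hgc : g₀ ∈ Subgroup.centralizer ({σ} : Set G) := hm ▸ pow_mem hc m
      have he : σ = σ⁻¹ := by
        rw [← hinv, Subgroup.mem_centralizer_singleton_iff.1 hgc, mul_inv_cancel_right]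
      have : orderOf σ ∣ 2 := orderOf_dvd_of_pow_eq_one (by
        rw [pow_two]; nth_rewrite 2 [he]; exact mul_inv_cancel σ)
      rw [ho] at this
      norm_num at this)
    have huu : u * u = 1 := by rw [← pow_two, ← hu]; exact pow_orderOf_eq_one u
    have := involution_central ρ hinj hdet huu
    rcases (inferInstance : (Subgroup.center G).Normal).eq_bot_or_eq_top with h | h
    · rw [h, Subgroup.mem_bot] at this
      rw [this, orderOf_one] at hu
      norm_num at hu
    · exact hG ⟨⟨fun a b => (Subgroup.mem_center_iff.1 (h ▸ Subgroup.mem_top a) b).symm⟩⟩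
  -- symmetry of the values
  set f : ZMod 11 → ℂ := fun t => ρ.character (σ ^ t.val) with hf
  have hfk : ∀ k : ℕ, ρ.character (σ ^ k) = f k := fun k => by
    simp only [hf, ZMod.val_natCast]
    rw [← ho, pow_mod_orderOf]
  have hneg : ∀ t, f (-t) = f t := fun t => by
    simp only [hf]
    refine (Char.IsClassFunction.apply_eq_of_isConj (Char.IsIrrCharacter.isClassFunction hχ)
      (isConj_iff.2 ⟨g₀, ?_⟩)).symm
    have e : σ ^ (-t).val = (σ ^ t.val)⁻¹ := by
      rw [eq_inv_iff_mul_eq_one, ← pow_add, ← orderOf_dvd_iff_pow_eq_one, ho,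
        ← ZMod.natCast_eq_zero_iff]
      push_cast
      simp
    rw [e, ← inv_pow, ← hinv, conj_pow]
  set s5 := ∑ k ∈ Finset.Icc 1 5, ρ.character (σ ^ k) with hs5
  have h10 : ∑ k ∈ range 11, ρ.character (σ ^ k) = (n : ℂ) + 2 * s5 := by
    have e : ∀ k ∈ Finset.Icc 1 5, ρ.character (σ ^ (11 - k)) = ρ.character (σ ^ k) := by
      intro k hk
      rw [hfk, hfk, Nat.cast_sub (by have := (Finset.mem_Icc.1 hk).2; omega),
        show ((11 : ℕ) : ZMod 11) = 0 from rfl, zero_sub, hneg]
    have hI : Finset.Icc 1 5 = ({1, 2, 3, 4, 5} : Finset ℕ) := by decide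
    have e1 := e 1 (by decide)
    have e2 := e 2 (by decide)
    have e3 := e 3 (by decide)
    have e4 := e 4 (by decide)
    have e5 := e 5 (by decide)
    simp only [hs5, hI, Finset.sum_insert, Finset.mem_insert, Finset.mem_singleton, Finset.sum_range_succ,
      Finset.sum_range_zero, pow_zero, hd, Finset.sum_singleton, one_ne_zero,
      Nat.reduceEqDiff, or_self, not_false_eq_true]
    norm_num at e1 e2 e3 e4 e5 ⊢
    rw [e1, e2, e3, e4, e5]
    ring
  have hs5int : IsIntegral ℤ s5 :=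
    IsIntegral.sum _ fun k _ => Char.char_isIntegral ρ _
  obtain ⟨z, hz⟩ : ∃ z : ℤ, s5 = z := by
    refine Char.exists_int_of_isIntegral_rat hs5int (q := ((11 * a₀ : ℚ) - n) / 2) ?_
    push_cast
    linear_combination (1 / 2 : ℂ) * (h10.symm.trans hsum)
  have hzeq : (11 * a₀ : ℤ) = n + 2 * z := by
    have := hsum.symm.trans h10
    rw [hz] at this
    exact_mod_cast this
  simp only [Finset.mem_insert, Finset.mem_singleton] at hdmem
  have ha : a₀ = 0 ∨ a₀ = 1 := by omega
  rcases ha with ha | ha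
  swap
  · rw [ha] at hzeq hlt; omega
  have hsel : n = 4 ∨ n = 6 ∨ n = 8 ∨ n = 12 ∨ n = 16 ∨ n = 18 := by
    rw [ha] at hzeq; omega
  -- the five conjugates
  obtain ⟨ω, hω⟩ : ∃ ω : ℂ, IsPrimitiveRoot ω 11 := ⟨_, Complex.isPrimitiveRoot_exp 11 (by norm_num)⟩
  have hτ : ∀ j ∈ Finset.Icc 1 5, ∃ τ : ℂ ≃+* ℂ, ∀ k : ℕ,
      τ (ρ.character (σ ^ k)) = ρ.character (σ ^ (j * k)) := by
    intro j hj
    obtain ⟨τ, hτ⟩ := CharDeep.Galois.exists_ringEquiv_primitive (by norm_num : (11 : ℕ) ≠ 0) hω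
      (hω.pow_of_coprime j ((Nat.Prime.coprime_iff_not_dvd (by norm_num)).2
        (fun h => by have := Finset.mem_Icc.1 hj; have := Nat.le_of_dvd (by omega) h; omega)).symm)
    refine ⟨τ, fun k => ?_⟩
    rw [hval, hval, map_sum]
    refine Finset.sum_congr rfl fun i _ => ?_
    obtain ⟨e, -, he⟩ := hω.eq_pow_of_pow_eq_one (hμ i)
    rw [← he, map_pow, map_pow, hτ]
    simp only [← pow_mul]
    congr 1
    ring
  choose! τ hτ using hτ
  let ψ : ℕ → Cfsg.IrrCharacter G := fun j =>
    if hj : j ∈ Finset.Icc 1 5 then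
      ⟨(τ j).toRingHom ∘ ρ.character, CharDeep.Galois.isIrrCharacter_map _ hχ⟩
    else ⟨ρ.character, hχ⟩
  have hψ : ∀ j ∈ Finset.Icc 1 5, ∀ k : ℕ,
      (ψ j : G → ℂ) (σ ^ k) = ρ.character (σ ^ (j * k)) := by
    intro j hj k
    simp only [ψ, dif_pos hj]
    exact hτ j hj k
  have hψ1 : ∀ j ∈ Finset.Icc 1 5, (ψ j : G → ℂ) 1 = n := by
    intro j hj
    have := hψ j hj 0
    rwa [pow_zero, mul_zero, pow_zero, hd] at this
  have hψinj : Set.InjOn ψ (Finset.Icc 1 5 : Finset ℕ) := by
    intro i hi j hj e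
    by_contra hij
    rw [Finset.mem_coe] at hi hj
    have hfij : ∀ t : ZMod 11, f ((i : ZMod 11) * t) = f ((j : ZMod 11) * t) := by
      intro t
      have h1 := hψ i hi t.val
      have h2 := hψ j hj t.val
      rw [e, h2, hfk, hfk, Nat.cast_mul, Nat.cast_mul, ZMod.natCast_zmod_val] at h1
      exact h1.symm
    have hi' : ((i : ZMod 11)).val = i := ZMod.val_natCast_of_lt (by have := Finset.mem_Icc.1 hi; omega)
    have hj' : ((j : ZMod 11)).val = j := ZMod.val_natCast_of_lt (by have := Finset.mem_Icc.1 hj; omega)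
    have hne' : (i : ZMod 11) ≠ j := fun h => hij (by rw [← hi', ← hj', h])
    have hi0 : (i : ZMod 11) ≠ 0 := fun h => by
      rw [h, ZMod.val_zero] at hi'; have := Finset.mem_Icc.1 hi; omega
    set c := (j : ZMod 11) * (i : ZMod 11)⁻¹ with hc
    have hstep : ∀ t, f (c * t) = f t := fun t => by
      have := hfij ((i : ZMod 11)⁻¹ * t)
      rw [← mul_assoc, ← mul_assoc, mul_inv_cancel₀ hi0, one_mul, ← hc] at this
      exact this.symm
    have hpow : ∀ m : ℕ, f (c ^ m) = f 1 := by
      intro m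
      induction m with
      | zero => rw [pow_zero]
      | succ m ih => rw [pow_succ', hstep, ih]
    have hconst : ∀ t : ZMod 11, t ≠ 0 → f t = f 1 := by
      intro t ht
      obtain ⟨m, hm | hm⟩ := zmod_orbit i j (by rw [hi']; exact hi) (by rw [hj']; exact hj) hne' t ht
      · rw [hm]; exact hpow m
      · rw [hm, hneg]; exact hpow m
    have hs : s5 = 5 * f 1 := by
      rw [hs5, Finset.sum_congr rfl fun k hk => by
        rw [hfk, hconst k (fun h => by
          have := (ZMod.natCast_eq_zero_iff k 11).1 h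
          have := Finset.mem_Icc.1 hk
          have := Nat.le_of_dvd (by omega) ‹11 ∣ k›
          omega)]]
      simp
    obtain ⟨w, hw⟩ : ∃ w : ℤ, f 1 = w := by
      refine Char.exists_int_of_isIntegral_rat (Char.char_isIntegral ρ _) (q := (z : ℚ) / 5) ?_
      push_cast
      rw [← hz, hs]
      ring
    have hzw : z = 5 * w := by
      have := hz.symm.trans hs
      rw [hw] at this
      exact_mod_cast this
    rw [ha, hzw] at hzeq
    omega
  -- column orthogonality
  let one' : Cfsg.IrrCharacter G := ⟨fun _ => 1, Char.isIrrCharacter_one⟩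
  have hcol : ∑ φ : Cfsg.IrrCharacter G, Complex.normSq ((φ : G → ℂ) σ) = 11 := by
    have h := Char.sum_irr_mul_conj σ σ
    rw [if_pos (IsConj.refl σ), hC] at h
    simp only [Complex.mul_conj] at h
    rw [← Complex.ofReal_sum] at h
    exact_mod_cast h
  have hbound : ∑ k ∈ Finset.Icc 1 5, Complex.normSq (ρ.character (σ ^ k)) ≤ 10 := by
    have hnot : one' ∉ (Finset.Icc 1 5).image ψ := by
      intro hm
      obtain ⟨j, hj, e⟩ := Finset.mem_image.1 hm
      have := hψ1 j hj
      rw [e] at this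
      have : (1 : ℂ) = n := this
      exact hd1 (by exact_mod_cast this.symm)
    have hle := Finset.sum_le_sum_of_subset_of_nonneg
      (Finset.subset_univ (insert one' ((Finset.Icc 1 5).image ψ)))
      (fun φ _ _ => Complex.normSq_nonneg ((φ : G → ℂ) σ))
    rw [Finset.sum_insert hnot, Finset.sum_image hψinj, hcol] at hle
    have e : ∀ k ∈ Finset.Icc 1 5, Complex.normSq ((ψ k : G → ℂ) σ) =
        Complex.normSq (ρ.character (σ ^ k)) := fun k hk => by
      have := hψ k hk 1
      rw [pow_one, mul_one] at this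
      rw [this]
    rw [Finset.sum_congr rfl e] at hle
    have : Complex.normSq ((one' : G → ℂ) σ) = 1 := Complex.normSq_one
    linarith
  -- the quadratic sum
  let aa : ℕ → ℕ := fun t => (univ.filter fun i => μ i = ω ^ t).card
  have huniq : ∀ i, ∀ s ∈ range 11, ∀ t ∈ range 11, μ i = ω ^ s → μ i = ω ^ t → s = t :=
    fun i s hs t ht h h' => hω.pow_inj (Finset.mem_range.1 hs) (Finset.mem_range.1 ht) (h.symm.trans h')
  have hexp : ∀ i, ∃ t ∈ range 11, μ i = ω ^ t := fun i => by
    obtain ⟨e, he1, he⟩ := hω.eq_pow_of_pow_eq_one (hμ i)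
    exact ⟨e, Finset.mem_range.2 he1, he.symm⟩
  choose ex hex hex' using hexp
  have haa : ∀ t ∈ range 11, aa t = (univ.filter fun i => ex i = t).card := fun t ht => by
    simp only [aa]
    congr 1
    ext i
    simp only [Finset.mem_filter, Finset.mem_univ, true_and]
    exact ⟨fun h => huniq i _ (hex i) t ht (hex' i) h, fun h => h ▸ hex' i⟩
  have haa0 : aa 0 = 0 := by
    simp only [aa, pow_zero]
    rw [← ha₀]; exact ha
  have haasum : ∑ t ∈ range 11, aa t = n := by
    rw [Finset.sum_congr rfl haa, ← Finset.card_eq_sum_card_fiberwise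
      (fun i _ => Finset.mem_coe.2 (hex i)), Finset.card_univ, Fintype.card_fin, hfr]
  have hM : ∑ k ∈ range 11, Complex.normSq (ρ.character (σ ^ k)) =
      11 * ((∑ t ∈ range 11, aa t * aa t : ℕ) : ℝ) := by
    apply Complex.ofReal_injective
    push_cast
    rw [Finset.sum_congr rfl fun k (_ : k ∈ range 11) => (Complex.mul_conj _).symm]
    simp only [hval, map_sum, map_pow, Finset.sum_mul, Finset.mul_sum, ← mul_pow]
    rw [Finset.sum_comm]
    rw [Finset.sum_congr rfl fun i _ => Finset.sum_comm]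
    have hmc : ∀ i j, μ i * conj (μ j) = 1 ↔ μ i = μ j := by
      intro i j
      have hn := Complex.norm_eq_one_of_pow_eq_one (hμ j) (by norm_num)
      rw [← Complex.inv_eq_conj hn, mul_inv_eq_one₀ (fun h0 => by rw [h0] at hn; simp at hn)]
    rw [Finset.sum_congr rfl fun i _ => Finset.sum_congr rfl fun j _ =>
      (sum_pow_eq_ite (show (μ j * conj (μ i)) ^ 11 = 1 by
        rw [mul_pow, hμ j, ← map_pow, hμ i, map_one, mul_one]))]
    simp only [hmc]
    have : ∀ i : Fin (finrank ℂ (Fin n → ℂ)), (univ.filter fun j => μ j = μ i).card = aa (ex i) := by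
      intro i
      simp only [aa]
      congr 1
      ext j
      simp only [Finset.mem_filter, Finset.mem_univ, true_and]
      exact ⟨fun h => h.trans (hex' i), fun h => h.trans (hex' i).symm⟩
    have key : ∀ i, (∑ j, if μ j = μ i then (11 : ℂ) else 0) = 11 * (aa (ex i) : ℂ) := fun i => by
      rw [← Finset.sum_filter, Finset.sum_const, nsmul_eq_mul, this i, mul_comm]
    rw [Finset.sum_congr rfl fun i _ => key i, ← Finset.mul_sum]
    rw [← Finset.sum_fiberwise_of_maps_to (g := ex) (t := range 11) fun i _ => hex i,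
      Finset.mul_sum]
    refine Finset.sum_congr rfl fun t ht => ?_
    rw [Finset.sum_congr rfl fun i hi => by rw [(Finset.mem_filter.1 hi).2], Finset.sum_const,
      ← haa t ht, nsmul_eq_mul]
  have hsplit : ∑ k ∈ range 11, Complex.normSq (ρ.character (σ ^ k)) =
      (n : ℝ) ^ 2 + 2 * ∑ k ∈ Finset.Icc 1 5, Complex.normSq (ρ.character (σ ^ k)) := by
    have e : ∀ k ∈ Finset.Icc 1 5, ρ.character (σ ^ (11 - k)) = ρ.character (σ ^ k) := by
      intro k hk
      rw [hfk, hfk, Nat.cast_sub (by have := (Finset.mem_Icc.1 hk).2; omega),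
        show ((11 : ℕ) : ZMod 11) = 0 from rfl, zero_sub, hneg]
    have hI : Finset.Icc 1 5 = ({1, 2, 3, 4, 5} : Finset ℕ) := by decide
    have e1 := e 1 (by decide)
    have e2 := e 2 (by decide)
    have e3 := e 3 (by decide)
    have e4 := e 4 (by decide)
    have e5 := e 5 (by decide)
    simp only [hI, Finset.sum_insert, Finset.mem_insert, Finset.mem_singleton, Finset.sum_range_succ,
      Finset.sum_range_zero, pow_zero, hd, Finset.sum_singleton, one_ne_zero,
      Nat.reduceEqDiff, or_self, not_false_eq_true, Complex.normSq_natCast]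
    norm_num at e1 e2 e3 e4 e5 ⊢
    rw [e1, e2, e3, e4, e5]
    ring
  have hineq : ∀ c, (2 * c + 1) * n ≤ ∑ t ∈ range 11, aa t * aa t + 10 * (c * (c + 1)) := by
    intro c
    have h := sum_sq_lower ((range 11).erase 0) aa c
    rw [Finset.card_erase_of_mem (by decide), Finset.card_range] at h
    have e1 : ∑ t ∈ (range 11).erase 0, aa t = n := by
      rw [← haasum, ← Finset.add_sum_erase _ _ (show 0 ∈ range 11 by decide), haa0, zero_add]
    have e2 : ∑ t ∈ (range 11).erase 0, aa t * aa t = ∑ t ∈ range 11, aa t * aa t := by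
      rw [← Finset.add_sum_erase (range 11) _ (show 0 ∈ range 11 by decide), haa0, zero_mul, zero_add]
    rwa [e1, e2] at h
  rw [hsplit] at hM
  have hbd : (11 * (∑ t ∈ range 11, aa t * aa t : ℕ) : ℝ) ≤ (n : ℝ) ^ 2 + 20 := by
    rw [← hM]; linarith
  have hbd' : 11 * (∑ t ∈ range 11, aa t * aa t) ≤ n ^ 2 + 20 := by exact_mod_cast hbd
  have h0 := hineq 0
  have h1 := hineq 1
  rcases hsel with rfl | rfl | rfl | rfl | rfl | rfl <;> omega

include hG ho hC hinv in
/-- The contradiction from a subgroup of index 22. -/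
theorem false_of_index (H : Subgroup G) (hH : H.index = 22) (hH11 : ¬ 11 ∣ Nat.card H)
    (hsmooth : ∀ d : ℕ, d ∣ Nat.card G → d ≤ 21 →
      d ∈ ({1, 2, 3, 4, 6, 8, 9, 11, 12, 16, 18} : Finset ℕ)) : False := by
  classical
  haveI : Fact (Nat.Prime 11) := ⟨by norm_num⟩
  set π : G → ℂ := Cfsg.indFun H (fun _ => 1) with hπ
  have hπc : Cfsg.IsCharacter G π := Char.IsCharacter.indFun H Char.isCharacter_one
  obtain ⟨m, hm, hexp⟩ := Char.IsCharacter.exists_multiplicity hπc
  let one' : Cfsg.IrrCharacter G := ⟨fun _ => 1, Char.isIrrCharacter_one⟩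
  have hm1 : m one' = 1 := by
    have h := hm one'
    rw [hπ, Char.classInner_indFun H (fun _ => 1)
      (Char.IsIrrCharacter.isClassFunction one'.2)] at h
    have e : Cfsg.classInner (fun _ => 1 : H → ℂ) (fun h : H => (one' : G → ℂ) h) = 1 :=
      Char.classInner_irr_self Char.isIrrCharacter_one
    rw [e] at h
    exact_mod_cast h.symm
  have hπ1 : π 1 = 22 := by rw [hπ, Char.indFun_one, hH]; norm_num
  have hπk : ∀ k ∈ range 11, k ≠ 0 → π (σ ^ k) = 0 := by
    intro k hk hk0
    rw [hπ]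
    refine Char.indFun_eq_zero_of_forall H _ fun x hx => hH11 ?_
    have h2 : orderOf (x⁻¹ * σ ^ k * x) = 11 := by
      rw [show x⁻¹ * σ ^ k * x = x⁻¹ * σ ^ k * (x⁻¹)⁻¹ by rw [inv_inv]]
      show orderOf (MulAut.conj x⁻¹ (σ ^ k)) = 11
      rw [MulEquiv.orderOf_eq, Nat.Coprime.orderOf_pow]
      · exact ho
      · rw [ho]
        exact (Nat.Prime.coprime_iff_not_dvd (by norm_num)).2 fun h =>
          hk0 (Nat.eq_zero_of_dvd_of_lt h (Finset.mem_range.1 hk))
    have := Subgroup.orderOf_dvd_natCard H hx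
    rwa [h2] at this
  choose d hdpos hd using fun φ : Cfsg.IrrCharacter G => Char.IsIrrCharacter.apply_one_eq φ.2
  have hdeg : ∑ φ, m φ * d φ = 22 := by
    have h := hexp 1
    rw [hπ1] at h
    simp only [hd] at h
    exact_mod_cast h.symm
  have hsplit : ∑ φ, m φ * d φ = 1 + ∑ φ ∈ univ.erase one', m φ * d φ := by
    rw [← Finset.add_sum_erase _ _ (Finset.mem_univ one'), hm1]
    have : d one' = 1 := by
      have h := hd one'
      change (1 : ℂ) = (d one' : ℂ) at h
      exact_mod_cast h.symm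
    rw [this, mul_one]
  have hkey : ∀ φ ∈ univ.erase one', m φ ≠ 0 →
      ∃ a₀ : ℕ, ∑ k ∈ range 11, (φ : G → ℂ) (σ ^ k) = 11 * (a₀ : ℂ) ∧ d φ ≤ 11 * a₀ := by
    intro φ hφ hmφ
    obtain ⟨e, he, hdvd⟩ := Char.IsIrrCharacter.apply_one_dvd_card φ.2
    refine deg_le hG ho hC hinv φ.2 (fun h => (Finset.mem_erase.1 hφ).1 (Subtype.ext h)) (hd φ)
      (hsmooth _ ?_ ?_)
    · have : e = d φ := by exact_mod_cast he.symm.trans (hd φ)
      exact this ▸ hdvd
    · have := Finset.single_le_sum (f := fun φ => m φ * d φ) (fun _ _ => Nat.zero_le _) hφ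
      have h2 : d φ ≤ m φ * d φ := Nat.le_mul_of_pos_left _ (Nat.pos_of_ne_zero hmφ)
      skip
      omega
  choose! a ha hle using hkey
  have hsum : ∑ k ∈ range 11, π (σ ^ k) = 22 := by
    rw [Finset.sum_eq_single 0 (fun k hk hk0 => hπk k hk hk0) (by simp), pow_zero, hπ1]
  simp only [hexp] at hsum
  rw [Finset.sum_comm, ← Finset.add_sum_erase _ _ (Finset.mem_univ one')] at hsum
  have h1 : ∑ k ∈ range 11, (m one' : ℂ) * (one' : G → ℂ) (σ ^ k) = 11 := by
    simp [hm1, one']
  rw [h1] at hsum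
  have h2 : ∀ φ ∈ univ.erase one', ∑ k ∈ range 11, (m φ : ℂ) * (φ : G → ℂ) (σ ^ k) =
      ((11 * (m φ * a φ) : ℕ) : ℂ) := by
    intro φ hφ
    rw [← Finset.mul_sum]
    by_cases hmφ : m φ = 0
    · simp [hmφ]
    · rw [ha φ hφ hmφ]; push_cast; ring
  rw [Finset.sum_congr rfl h2] at hsum
  have hsum' : 11 + ∑ φ ∈ univ.erase one', 11 * (m φ * a φ) = 22 := by exact_mod_cast hsum
  have hle' : ∑ φ ∈ univ.erase one', m φ * d φ ≤ ∑ φ ∈ univ.erase one', 11 * (m φ * a φ) := by
    refine Finset.sum_le_sum fun φ hφ => ?_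
    by_cases hmφ : m φ = 0
    · simp [hmφ]
    · calc m φ * d φ ≤ m φ * (11 * a φ) := Nat.mul_le_mul_left _ (hle φ hφ hmφ)
        _ = 11 * (m φ * a φ) := by ring
  omega

end CfsgLib.NumberTheory.DegreeTwentyTwo
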