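import Mathlib

/-!
# Orbits of a subgroup on invariant sets
-/

set_option autoImplicit false

namespace CfsgLib.NumberTheory.OrbitTools

open MulAction
open scoped Pointwise

variable {G : Type*} [Group G] {X : Type*} [MulAction G X]

/-- The orbit of a point under a subgroup, as a set. -/
def orb (P : Subgroup G) (y : X) : Set X := {z | ∃ p ∈ P, p • y = z}

theorem self_mem_orb (P : Subgroup G) (y : X) : y ∈ orb P y := ⟨1, one_mem _, one_smul _ _⟩

theorem orb_eq_of_mem {P : Subgroup G} {y z : X} (h : z ∈ orb P y) : orb P z = orb P y := by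
  obtain ⟨p, hp, rfl⟩ := h
  ext w
  constructor
  · rintro ⟨q, hq, rfl⟩
    exact ⟨q * p, mul_mem hq hp, mul_smul _ _ _⟩
  · rintro ⟨q, hq, rfl⟩
    exact ⟨q * p⁻¹, mul_mem hq (inv_mem hp), by rw [mul_smul, inv_smul_smul]⟩

theorem smul_orb {P : Subgroup G} {x : G} (hx : x ∈ Subgroup.normalizer (P : Set G)) (y : X) :
    x • orb P y = orb P (x • y) := by
  ext w
  rw [Set.mem_smul_set]
  constructor
  · rintro ⟨z, ⟨p, hp, rfl⟩, rfl⟩
    exact ⟨x * p * x⁻¹, (Subgroup.mem_normalizer_iff.1 hx p).1 hp,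
      by rw [← mul_smul, ← mul_smul, inv_mul_cancel_right]⟩
  · rintro ⟨p, hp, rfl⟩
    refine ⟨(x⁻¹ * p * x) • y, ⟨_, ?_, rfl⟩, ?_⟩
    · refine (Subgroup.mem_normalizer_iff.1 hx _).2 ?_
      rwa [show x * (x⁻¹ * p * x) * x⁻¹ = p by group]
    · rw [← mul_smul, ← mul_smul]
      congr 1
      group

theorem ncard_orb_pos [Finite X] (P : Subgroup G) (y : X) : 0 < (orb P y).ncard :=
  (Set.ncard_pos (Set.toFinite _)).2 ⟨y, self_mem_orb P y⟩

theorem orb_eq_orbit (P : Subgroup G) (y : X) : orb P y = MulAction.orbit ↥P y := by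
  ext z
  exact ⟨fun ⟨p, hp, h⟩ => ⟨⟨p, hp⟩, h⟩, fun ⟨p, h⟩ => ⟨p, p.2, h⟩⟩

theorem ncard_orb (P : Subgroup G) (y : X) :
    (orb P y).ncard = (stabilizer G y).relIndex P := by
  rw [orb_eq_orbit, ← Nat.card_coe_set_eq, Subgroup.relIndex, Subgroup.index_eq_card]
  refine Nat.card_congr ((MulAction.orbitEquivQuotientStabilizer ↥P y).trans
    (Subgroup.quotientEquivOfEq ?_))
  ext p
  exact Iff.rfl

/-- An orbit is either small or a singleton: sizes divide the order of the subgroup. -/
theorem ncard_orb_dvd (P : Subgroup G) (y : X) : (orb P y).ncard ∣ Nat.card P := by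
  rw [ncard_orb]
  exact Subgroup.index_dvd_card _

/-- Induction over the orbits inside an invariant set. -/
theorem orbit_induction [Finite X] {P : Subgroup G} {motive : Set X → Prop} (h0 : motive ∅)
    (hs : ∀ S y, y ∈ S → (∀ p ∈ P, ∀ z ∈ S, p • z ∈ S) → motive (S \ orb P y) → motive S)
    (S : Set X) (hS : ∀ p ∈ P, ∀ z ∈ S, p • z ∈ S) : motive S := by
  induction h : S.ncard using Nat.strong_induction_on generalizing S with
  | _ n ih =>
    rcases S.eq_empty_or_nonempty with rfl | ⟨y, hy⟩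
    · exact h0
    refine hs S y hy hS (ih _ ?_ _ ?_ rfl)
    · rw [← h]
      exact Set.ncard_lt_ncard (Set.ssubset_iff_of_subset Set.diff_subset |>.2
        ⟨y, hy, fun hc => hc.2 (self_mem_orb P y)⟩) (Set.toFinite _)
    · rintro p hp z ⟨hz, hzo⟩
      refine ⟨hS p hp z hz, fun hc => hzo ?_⟩
      rw [← orb_eq_of_mem hc]
      exact ⟨p⁻¹, inv_mem hp, inv_smul_smul _ _⟩

theorem orb_subset {P : Subgroup G} {S : Set X} (hS : ∀ p ∈ P, ∀ z ∈ S, p • z ∈ S) {y : X}
    (hy : y ∈ S) : orb P y ⊆ S := by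
  rintro _ ⟨p, hp, rfl⟩; exact hS p hp y hy

theorem dvd_ncard [Finite X] {P : Subgroup G} {k : ℕ} (S : Set X)
    (hS : ∀ p ∈ P, ∀ z ∈ S, p • z ∈ S) (h : ∀ y ∈ S, k ∣ (orb P y).ncard) : k ∣ S.ncard := by
  revert h
  refine orbit_induction (motive := fun S => (∀ y ∈ S, k ∣ (orb P y).ncard) → k ∣ S.ncard)
    (by simp) (fun S y hy hS ih h => ?_) S hS
  rw [← Set.ncard_diff_add_ncard_of_subset (orb_subset hS hy) (Set.toFinite _)]
  exact dvd_add (ih fun z hz => h z hz.1) (h y hy)

/-- When all orbits have the same size, the invariant set is counted by its orbits. -/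
theorem ncard_eq_mul [Finite X] {P : Subgroup G} {k : ℕ} (S : Set X)
    (hS : ∀ p ∈ P, ∀ z ∈ S, p • z ∈ S) (h : ∀ y ∈ S, (orb P y).ncard = k) :
    S.ncard = k * (orb P '' S).ncard := by
  revert h
  refine orbit_induction
    (motive := fun S => (∀ y ∈ S, (orb P y).ncard = k) → S.ncard = k * (orb P '' S).ncard)
    (by simp) (fun S y hy hS ih h => ?_) S hS
  have hsub : orb P '' S = insert (orb P y) (orb P '' (S \ orb P y)) := by
    ext O
    constructor
    · rintro ⟨z, hz, rfl⟩
      by_cases hzy : z ∈ orb P y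
      · exact Or.inl (orb_eq_of_mem hzy)
      · exact Or.inr ⟨z, ⟨hz, hzy⟩, rfl⟩
    · rintro (rfl | ⟨z, hz, rfl⟩)
      exacts [⟨y, hy, rfl⟩, ⟨z, hz.1, rfl⟩]
  have hnot : orb P y ∉ orb P '' (S \ orb P y) := by
    rintro ⟨z, hz, he⟩
    exact hz.2 (he ▸ self_mem_orb P z)
  rw [hsub, Set.ncard_insert_of_notMem hnot (Set.toFinite _), mul_add, mul_one,
    ← ih fun z hz => h z hz.1, ← h y hy,
    Set.ncard_diff_add_ncard_of_subset (orb_subset hS hy) (Set.toFinite _)]

/-- A `q`-element normalising `P` fixes an invariant set pointwise when the set has too few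
orbits for them to be moved and each orbit is too small. -/
theorem fix_of_small [Finite X] {P : Subgroup G} {x : G} {q s : ℕ} (hq : q.Prime) (hx : x ^ q = 1)
    (hN : x ∈ Subgroup.normalizer (P : Set G)) {S : Set X} (hxS : ∀ z ∈ S, x • z ∈ S)
    (hPS : ∀ p ∈ P, ∀ z ∈ S, p • z ∈ S) (hsize : ∀ y ∈ S, s ≤ (orb P y).ncard)
    (hsmall : ∀ y ∈ S, (orb P y).ncard < q) (hcard : S.ncard < q * s) :
    ∀ y ∈ S, x • y = y := by
  intro y hy
  haveI : Fact q.Prime := ⟨hq⟩
  have hxn : ∀ n : ℕ, x ^ n • y ∈ S := by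
    intro n
    induction n with
    | zero => rwa [pow_zero, one_smul]
    | succ n ih => rw [pow_succ', mul_smul]; exact hxS _ ih
  have hNn : ∀ n : ℕ, x ^ n ∈ Subgroup.normalizer (P : Set G) := fun n => pow_mem hN n
  -- some translate of the orbit equals the orbit
  have hrep : ∃ n, ¬ q ∣ n ∧ x ^ n • orb P y = orb P y := by
    by_contra hc
    push Not at hc
    have hinj : ∀ i j : Fin q, x ^ (i : ℕ) • orb P y = x ^ (j : ℕ) • orb P y → i = j := by
      have aux : ∀ i j : Fin q, (i : ℕ) ≤ j → x ^ (i : ℕ) • orb P y = x ^ (j : ℕ) • orb P y →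
          i = j := by
        intro i j hij e
        by_contra hne
        refine hc ((j : ℕ) - i) ?_ ?_
        · intro hd
          have := Nat.eq_zero_of_dvd_of_lt hd (by have := j.2; omega)
          exact hne (Fin.ext (by omega))
        · have e' := congrArg (fun T => (x ^ (i : ℕ))⁻¹ • T) e
          simp only [inv_smul_smul] at e'
          conv_rhs => rw [e', ← Nat.add_sub_of_le hij, pow_add, mul_smul, inv_smul_smul]
      intro i j e
      rcases le_total (i : ℕ) j with h | h
      exacts [aux i j h e, (aux j i h e.symm).symm]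
    have hdisj : ∀ i j : Fin q, i ≠ j →
        Disjoint (x ^ (i : ℕ) • orb P y) (x ^ (j : ℕ) • orb P y) := by
      intro i j hne
      rw [smul_orb (hNn i), smul_orb (hNn j), Set.disjoint_left]
      intro w hw hw'
      apply hne (hinj i j _)
      rw [smul_orb (hNn i), smul_orb (hNn j), ← orb_eq_of_mem hw, ← orb_eq_of_mem hw']
    have hle : (⋃ i : Fin q, x ^ (i : ℕ) • orb P y).ncard ≤ S.ncard := by
      refine Set.ncard_le_ncard ?_ (Set.toFinite _)
      intro w hw
      obtain ⟨i, hi⟩ := Set.mem_iUnion.1 hw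
      rw [smul_orb (hNn i)] at hi
      exact orb_subset hPS (hxn i) hi
    rw [Set.ncard_iUnion_of_finite (fun i => Set.toFinite _) hdisj, finsum_eq_sum_of_fintype] at hle
    have : ∑ i : Fin q, (x ^ (i : ℕ) • orb P y).ncard ≥ ∑ _i : Fin q, s := by
      refine Finset.sum_le_sum fun i _ => ?_
      rw [smul_orb (hNn i)]
      exact hsize _ (hxn i)
    rw [Finset.sum_const, Finset.card_univ, Fintype.card_fin, smul_eq_mul] at this
    omega
  obtain ⟨n, hn, hfix⟩ := hrep
  have hstab : x ∈ stabilizer G (orb P y) := by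
    have hpow : ∀ m : ℕ, x ^ (n * m) ∈ stabilizer G (orb P y) := fun m => by
      rw [pow_mul]; exact pow_mem hfix m
    obtain ⟨m, hm⟩ := Nat.exists_mul_mod_eq_one_of_coprime
      (((Nat.Prime.coprime_iff_not_dvd hq).2 hn).symm) hq.one_lt
    have h1 := hpow m
    rwa [← Nat.div_add_mod (n * m) q, hm.2, pow_add, pow_mul, hx, one_pow, one_mul, pow_one] at h1
  have hmem : ∀ m : ℕ, x ^ m • y ∈ orb P y := by
    intro m
    have h1 : x ^ m • orb P y = orb P y := pow_mem hstab m
    rw [← h1]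
    exact ⟨y, self_mem_orb P y, rfl⟩
  by_contra hne
  have hinj : Function.Injective fun i : Fin q => x ^ (i : ℕ) • y := by
    have aux : ∀ i j : Fin q, (i : ℕ) ≤ j → x ^ (i : ℕ) • y = x ^ (j : ℕ) • y → i = j := by
      intro i j hij e
      by_contra hij'
      apply hne
      have hd : ¬ q ∣ (j : ℕ) - i := fun hd => by
        have := Nat.eq_zero_of_dvd_of_lt hd (by have := j.2; omega)
        exact hij' (Fin.ext (by omega))
      have h1 : x ^ ((j : ℕ) - i) ∈ stabilizer G y := by
        show x ^ ((j : ℕ) - i) • y = y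
        apply MulAction.injective (x ^ (i : ℕ))
        show x ^ (i : ℕ) • x ^ ((j : ℕ) - i) • y = x ^ (i : ℕ) • y
        rw [← mul_smul, ← pow_add, Nat.add_sub_of_le hij, e]
      obtain ⟨m, hm⟩ := Nat.exists_mul_mod_eq_one_of_coprime
        (((Nat.Prime.coprime_iff_not_dvd hq).2 hd).symm) hq.one_lt
      have h2 := pow_mem h1 m
      rw [← pow_mul, ← Nat.div_add_mod (((j : ℕ) - i) * m) q, hm.2, pow_add, pow_mul, hx, one_pow,
        one_mul, pow_one] at h2
      exact h2
    intro i j e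
    rcases le_total (i : ℕ) j with h | h
    exacts [aux i j h e, (aux j i h e.symm).symm]
  have := Set.ncard_le_ncard (s := Set.range fun i : Fin q => x ^ (i : ℕ) • y) (t := orb P y)
    (by rintro _ ⟨i, rfl⟩; exact hmem i) (Set.toFinite _)
  rw [Set.ncard_range_of_injective hinj, Nat.card_fin] at this
  have := hsmall y hy
  omega

end CfsgLib.NumberTheory.OrbitTools
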